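import Mathlib
import Cfsg.Agent.Lib.Helper75.APair.Defs

set_option autoImplicit false

/-! APAIR (S2276), package CONJ: `PP` is invariant under simultaneous conjugation. -/

namespace Cfsg.Agent.Lib.Helper72.APair

open Equiv Cfsg.Agent.Lib.Helper75.APair

theorem pp_conj {G : Type} [Group G] (p : ℕ) (a b k : G) (h : PP p a b) :
    PP p (k * a * k⁻¹) (k * b * k⁻¹) := by
  obtain ⟨h1, h2⟩ := h
  refine ⟨?_, ?_⟩
  · have e : k * a * k⁻¹ * (k * b * k⁻¹) = MulAut.conj k (a * b) := by
      rw [MulAut.conj_apply]; group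
    rw [e, MulEquiv.orderOf_eq]
    exact h1
  · intro hs
    apply h2
    have e : Subgroup.closure ({k * a * k⁻¹, k * b * k⁻¹} : Set G)
        = (Subgroup.closure ({a, b} : Set G)).map (MulAut.conj k).toMonoidHom := by
      rw [MonoidHom.map_closure, Set.image_pair]
      rfl
    rw [e] at hs
    let e' := Subgroup.equivMapOfInjective (Subgroup.closure ({a, b} : Set G))
      (MulAut.conj k).toMonoidHom (MulAut.conj k).injective
    exact Group.isSolvable_of_isSolvable_injective (f := e'.toMonoidHom) e'.injective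

theorem pp_swap {G : Type} [Group G] (p : ℕ) (a b : G) (h : PP p a b) : PP p b a := by
  obtain ⟨h1, h2⟩ := h
  refine ⟨?_, ?_⟩
  · have e : b * a = MulAut.conj b (a * b) := by
      rw [MulAut.conj_apply]; group
    rw [e, MulEquiv.orderOf_eq]
    exact h1
  · rw [Set.pair_comm]
    exact h2

theorem pkgConj : PkgConj := fun _ _ p a b k h => pp_conj p a b k h

end Cfsg.Agent.Lib.Helper72.APair
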