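import Mathlib
import Cfsg.Agent.Lib.Helper75.APair.Defs

set_option autoImplicit false

/-! APAIR (S2276), package EVEN: an element one of whose powers is an involution does not have
odd prime power order. -/

namespace Cfsg.Agent.Lib.Helper72.APair

open Equiv Cfsg.Agent.Lib.Helper75.APair

theorem pkgEven : PkgEven := by
  intro G _ p hp x m hne hsq ⟨k, hk⟩
  have h2 : orderOf (x ^ m) = 2 := orderOf_eq_prime hsq hne
  have hdvd : orderOf (x ^ m) ∣ orderOf x := orderOf_pow_dvd m
  rw [h2, hk] at hdvd
  have hodd : Odd (p ^ k) := hp.pow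
  have heven : Even (p ^ k) := (even_iff_two_dvd).mpr hdvd
  exact (Nat.not_even_iff_odd.mpr hodd) heven

end Cfsg.Agent.Lib.Helper72.APair
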