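import Mathlib
import Cfsg.Agent.Lib.Helper75.APair.Defs

set_option autoImplicit false

/-! APAIR (S2276), package NSG: the Mathlib `fin_5_not_solvable` trick for a subgroup. -/

namespace Cfsg.Agent.Lib.Helper72.APair

open Equiv Cfsg.Agent.Lib.Helper75.APair
open scoped commutatorElement

theorem pkgNSG : PkgNSG := by
  intro G _ H x y z hx hy hz hx1 key
  let x' : H := ⟨x, hx⟩
  let y' : H := ⟨y, hy⟩
  let z' : H := ⟨z, hz⟩
  have key' : x' = z' * ⁅x', y' * x' * y'⁻¹⁆ * z'⁻¹ := by
    apply Subtype.ext
    simp only [x', y', z', commutatorElement_def, Subgroup.coe_mul, Subgroup.coe_inv]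
    rw [commutatorElement_def] at key
    exact key
  have hx1' : x' ≠ 1 := fun h => hx1 (congrArg Subtype.val h)
  refine not_isSolvable_of_mem_derivedSeries hx1' fun n => ?_
  induction n with
  | zero => exact Subgroup.mem_top x'
  | succ n ih =>
    rw [key', (derivedSeries_normal _ _).mem_comm_iff, inv_mul_cancel_left]
    exact Subgroup.commutator_mem_commutator ih ((derivedSeries_normal _ _).conj_mem _ ih _)

end Cfsg.Agent.Lib.Helper72.APair
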