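import Mathlib
import Cfsg.Agent.Lib.Helper75.APair.Defs
import Cfsg.Agent.Lib.Helper72.APair.NSG

set_option autoImplicit false

/-! APAIR (S2276), package NS5: a subgroup containing two 3-cycles `(a b c)`, `(c d e)` sharing
exactly one point is not solvable. -/

namespace Cfsg.Agent.Lib.Helper72.APair

open Equiv Cfsg.Agent.Lib.Helper75.APair
open scoped commutatorElement

/-- The identity in `Perm (Fin 5)` behind NS5. -/
theorem ns5_key :
    (swap (0 : Fin 5) 1 * swap 1 2) =
      ((swap (2 : Fin 5) 3 * swap 3 4)⁻¹ * (swap (0 : Fin 5) 1 * swap 1 2)⁻¹) *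
        ⁅(swap (0 : Fin 5) 1 * swap 1 2),
          ((swap (2 : Fin 5) 3 * swap 3 4) * (swap (0 : Fin 5) 1 * swap 1 2) *
            (swap (2 : Fin 5) 3 * swap 3 4)) * (swap (0 : Fin 5) 1 * swap 1 2) *
            ((swap (2 : Fin 5) 3 * swap 3 4) * (swap (0 : Fin 5) 1 * swap 1 2) *
              (swap (2 : Fin 5) 3 * swap 3 4))⁻¹⁆ *
        ((swap (2 : Fin 5) 3 * swap 3 4)⁻¹ * (swap (0 : Fin 5) 1 * swap 1 2)⁻¹)⁻¹ := by
  decide +kernel

theorem viaEmbeddingHom_swap {α β : Type} [DecidableEq α] [DecidableEq β] (ι : α ↪ β) (i j : α) :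
    Perm.viaEmbeddingHom ι (swap i j) = swap (ι i) (ι j) := by
  ext x
  rw [Perm.viaEmbeddingHom_apply]
  by_cases hx : x ∈ Set.range ι
  · obtain ⟨k, rfl⟩ := hx
    rw [Perm.viaEmbedding_apply, ι.injective.swap_apply]
  · rw [Perm.viaEmbedding_apply_of_notMem _ _ _ hx]
    have h1 : x ≠ ι i := fun h => hx ⟨i, h.symm⟩
    have h2 : x ≠ ι j := fun h => hx ⟨j, h.symm⟩
    rw [swap_apply_of_ne_of_ne h1 h2]

theorem pkgNS5 : PkgNS5 := by
  intro Ω _ H a b c d e hnd h1 h2
  have hinj : Function.Injective ![a, b, c, d, e] := by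
    have := List.nodup_ofFn.mp (by simpa using hnd : (List.ofFn ![a, b, c, d, e]).Nodup)
    exact this
  let ι : Fin 5 ↪ Ω := ⟨![a, b, c, d, e], hinj⟩
  let φ : Perm (Fin 5) →* Perm Ω := Perm.viaEmbeddingHom ι
  have hs : ∀ i j : Fin 5, φ (swap i j) = swap (ι i) (ι j) := fun i j => viaEmbeddingHom_swap ι i j
  have e1 : φ (swap (0 : Fin 5) 1 * swap 1 2) = swap a b * swap b c := by
    rw [map_mul, hs, hs]; rfl
  have e2 : φ (swap (2 : Fin 5) 3 * swap 3 4) = swap c d * swap d e := by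
    rw [map_mul, hs, hs]; rfl
  have key := congrArg φ ns5_key
  simp only [map_mul, map_inv, map_commutatorElement] at key
  rw [← map_mul, ← map_mul, e1, e2] at key
  set t₁ := swap a b * swap b c with ht₁
  set t₂ := swap c d * swap d e with ht₂
  have hab : a ≠ b := by
    intro h
    have := hinj (show ![a, b, c, d, e] 0 = ![a, b, c, d, e] 1 from h)
    exact absurd this (by decide)
  have hac : a ≠ c := by
    intro h
    have := hinj (show ![a, b, c, d, e] 0 = ![a, b, c, d, e] 2 from h)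
    exact absurd this (by decide)
  have ht1 : t₁ ≠ 1 := by
    intro h
    have := congrArg (fun s : Perm Ω => s a) h
    simp only [ht₁, Perm.mul_apply, Perm.one_apply] at this
    rw [swap_apply_of_ne_of_ne hab hac, swap_apply_left] at this
    exact hab this.symm
  exact pkgNSG (Perm Ω) H t₁ (t₂ * t₁ * t₂) (t₂⁻¹ * t₁⁻¹) h1
    (H.mul_mem (H.mul_mem h2 h1) h2) (H.mul_mem (H.inv_mem h2) (H.inv_mem h1)) ht1 key

end Cfsg.Agent.Lib.Helper72.APair
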