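import Mathlib
import Cfsg.Agent.Lib.Helper75.APair.Defs
import Cfsg.Agent.Lib.Helper72.APair.Conj

set_option autoImplicit false

/-! APAIR (S2276), package ODDC: one good conjugate plus an odd permutation commuting with `a`
gives `Good`. -/

namespace Cfsg.Agent.Lib.Helper72.APair

open Equiv Cfsg.Agent.Lib.Helper75.APair

theorem pkgOddComm : PkgOddComm := by
  intro Δ _ _ p a b g σ h hσ hcomm
  refine ⟨g, σ * g, ?_, h, ?_⟩
  · rw [Perm.sign_mul, hσ]
    intro hc
    have := congrArg (fun t => t * (Perm.sign g)⁻¹) hc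
    simp at this
  · have h1 := pp_conj p a (g * b * g⁻¹) σ h
    have e1 : σ * a * σ⁻¹ = a := by rw [hcomm]; group
    have e2 : σ * (g * b * g⁻¹) * σ⁻¹ = σ * g * b * (σ * g)⁻¹ := by group
    rw [e1, e2] at h1
    exact h1

end Cfsg.Agent.Lib.Helper72.APair
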