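import Mathlib
import Cfsg.Agent.Lib.Helper75.APair.Defs

set_option autoImplicit false

/-! APAIR (S2276), package REDA: the restriction of `u` to an invariant finset of size `q`, as a
permutation of `Fin q`. -/

namespace Cfsg.Agent.Lib.Helper72.APair

open Equiv Cfsg.Agent.Lib.Helper75.APair

theorem pkgRedA : PkgRedA := by
  intro Ω _ _ u Z q hq hinv
  have himg : Z.image u = Z := by
    apply Finset.eq_of_subset_of_card_le
    · intro y hy
      obtain ⟨z, hz, rfl⟩ := Finset.mem_image.mp hy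
      exact hinv z hz
    · rw [Finset.card_image_of_injective _ u.injective]
  have hiff : ∀ x, u x ∈ Z ↔ x ∈ Z := by
    intro x
    refine ⟨fun h => ?_, fun h => hinv x h⟩
    rw [← himg] at h
    obtain ⟨z, hz, hzx⟩ := Finset.mem_image.mp h
    rw [← u.injective hzx]
    exact hz
  let e : {x // x ∈ Z} ≃ Fin q := Z.equivFinOfCardEq hq
  let uZ : Perm {x // x ∈ Z} := u.subtypePerm hiff
  let ι : Fin q ↪ Ω := ⟨fun k => ((e.symm k : {x // x ∈ Z}) : Ω), fun i j h => by
    have := Subtype.ext h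
    exact e.symm.injective this⟩
  refine ⟨ι, e.symm.trans (uZ.trans e), ?_, ?_⟩
  · intro x
    show u ((e.symm x : {x // x ∈ Z}) : Ω) = ((e.symm (e (uZ (e.symm x))) : {x // x ∈ Z}) : Ω)
    rw [Equiv.symm_apply_apply]
    rfl
  · intro z hz
    refine ⟨e ⟨z, hz⟩, ?_⟩
    show ((e.symm (e ⟨z, hz⟩) : {x // x ∈ Z}) : Ω) = z
    rw [Equiv.symm_apply_apply]

end Cfsg.Agent.Lib.Helper72.APair
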