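import Mathlib
import Cfsg.Agent.Lib.Helper75.APair.Defs

set_option autoImplicit false

/-! APAIR (S2276), package REDB: an orbit of size `q` of `w` is a copy of `finRotate q`. -/

namespace Cfsg.Agent.Lib.Helper72.APair

open Equiv Cfsg.Agent.Lib.Helper75.APair

theorem pkgRedB : PkgRedB := by
  intro Ω _ _ w y₀ q hq
  rcases q with _ | n
  · exact ⟨⟨fun k => k.elim0, fun i => i.elim0⟩, fun k => k.elim0⟩
  · let ι : Fin (n + 1) ↪ Ω := ⟨fun k => (w : Ω → Ω)^[k.val] y₀, fun i j h => by
      have hi : i.val ∈ Set.Iio (Function.minimalPeriod (w : Ω → Ω) y₀) := by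
        rw [hq]; exact i.isLt
      have hj : j.val ∈ Set.Iio (Function.minimalPeriod (w : Ω → Ω) y₀) := by
        rw [hq]; exact j.isLt
      exact Fin.ext (Function.iterate_injOn_Iio_minimalPeriod hi hj h)⟩
    refine ⟨ι, fun k => ?_⟩
    show w ((w : Ω → Ω)^[k.val] y₀) = (w : Ω → Ω)^[(finRotate (n + 1) k).val] y₀
    rw [finRotate_apply, ← Function.iterate_succ_apply' (w : Ω → Ω) k.val y₀]
    have hval : (k + 1 : Fin (n + 1)).val = (k.val + 1) % (n + 1) := by
      rw [Fin.val_add, Fin.val_one', Nat.add_mod_mod]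
    rw [hval]
    have := Function.iterate_mod_minimalPeriod_eq (f := (w : Ω → Ω)) (x := y₀) (n := k.val + 1)
    rw [hq] at this
    exact this.symm

end Cfsg.Agent.Lib.Helper72.APair
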