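import Mathlib
import Cfsg.Agent.Lib.Helper75.APair.Defs

set_option autoImplicit false

/-! APAIR (S2276), package REDC: periods and exponents pass through an intertwining embedding. -/

namespace Cfsg.Agent.Lib.Helper72.APair

open Equiv Cfsg.Agent.Lib.Helper75.APair

theorem pkgRedC : PkgRedC := by
  intro Ω Δ _ _ _ _ u a ι h
  have hit : ∀ (n : ℕ) (x : Δ), (u : Ω → Ω)^[n] (ι x) = ι ((a : Δ → Δ)^[n] x) := by
    intro n
    induction n with
    | zero => intro x; rfl
    | succ n ih =>
      intro x
      rw [Function.iterate_succ_apply', Function.iterate_succ_apply', ih, h]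
  refine ⟨fun x => ?_, fun m hm => ?_⟩
  · rw [Function.minimalPeriod_eq_minimalPeriod_iff]
    intro n
    unfold Function.IsPeriodicPt Function.IsFixedPt
    rw [hit n x]
    exact ⟨fun hx => by rw [hx], fun hx => ι.injective hx⟩
  · ext x
    apply ι.injective
    have h1 := hit m x
    rw [Perm.iterate_eq_pow, Perm.iterate_eq_pow, hm] at h1
    rw [Perm.one_apply]
    exact h1.symm

end Cfsg.Agent.Lib.Helper72.APair
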