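import Mathlib
import Cfsg.Agent.Lib.Helper75.APair.Defs
import Cfsg.Agent.Lib.Helper72.APair.Conj

set_option autoImplicit false

/-! APAIR (S2276), package SYMM: `Good` is symmetric. -/

namespace Cfsg.Agent.Lib.Helper72.APair

open Equiv Cfsg.Agent.Lib.Helper75.APair

theorem pp_flip {G : Type} [Group G] (p : ℕ) (a b g : G) (h : PP p b (g * a * g⁻¹)) :
    PP p a (g⁻¹ * b * g⁻¹⁻¹) := by
  have h1 := pp_conj p b (g * a * g⁻¹) g⁻¹ h
  have e : g⁻¹ * (g * a * g⁻¹) * g⁻¹⁻¹ = a := by group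
  rw [e] at h1
  exact pp_swap p _ _ h1

theorem pkgSymm : PkgSymm := by
  intro Δ _ _ p a b ⟨g₁, g₂, hs, h1, h2⟩
  refine ⟨g₁⁻¹, g₂⁻¹, ?_, pp_flip p a b g₁ h1, pp_flip p a b g₂ h2⟩
  rw [Perm.sign_inv, Perm.sign_inv]
  exact hs

end Cfsg.Agent.Lib.Helper72.APair
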